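import Cfsg.Agent.H918.Six.M12Six
import Cfsg.Agent.H24.M12.Main

/-!
# Cores of degree six with socle the Mathieu group of degree 12 (helper918)
-/

set_option autoImplicit false
set_option linter.unusedSectionVars false

namespace Cfsg.Agent.H918.Six.M12

open Matrix Cfsg Cfsg.Geo Cfsg.Agent.H915.LD

universe u

variable {ι : Type} [Fintype ι] [DecidableEq ι] {F : Type u} [Field F] [Finite F] {P : Subgroup (GL ι F)}

/-- **Degree six: `SD P`, or `p = 3` and `Fr P 3`.** -/
theorem m12_six (hC : Core P) (p : ℕ) [hp : Fact p.Prime] [CharP F p] (h : Spor.IsoM12 (Soc P))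
    (hn : Fintype.card ι = 6) : SD P ∨ (p = 3 ∧ Fr P 3) := by
  by_cases h2 : p = 2
  · subst h2
    exact Or.inl (H6.M11.m12_odd hC 2 (by norm_num) h (by omega) (Or.inr rfl))
  · have h2F : (2 : F) ≠ 0 := by
      intro h0
      have h1 : ((2 : ℕ) : F) = 0 := by exact_mod_cast h0
      rw [CharP.cast_eq_zero_iff F p] at h1
      exact h2 ((Nat.prime_dvd_prime_iff_eq hp.out Nat.prime_two).1 h1)
    rcases H6.M11.m12_cases hC h with ⟨⟨e⟩⟩ | ⟨h3, -⟩
    · exact (not_six h2F hn e).elim
    · right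
      have hne : (scalars ι F).subgroupOf P ≠ ⊥ := by
        intro h4
        rw [h4, Subgroup.card_bot] at h3
        norm_num at h3
      rcases H24.M12.two_m12 hC h h2 hne (by omega) with ⟨h4, -, h5⟩ | ⟨-, h4, -⟩
      · exact ⟨h4, h5⟩
      · omega

end Cfsg.Agent.H918.Six.M12
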