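import Cfsg.Agent.H915.LD
import Cfsg.Agent.LieClassical.SmallIso
import Cfsg.Agent.LieClassical.FieldTransfer
import Cfsg.Prelude.Def_Spor_Mathieu

/-!
# Dimension six: assembly of the rows S5800 (`SL_6`) and S5803 (`SU_6`) (helper918)

`Out6 p P` : the list of the cores of degree six with the stage-1 facts; `Kills H P` : the non-maximality statements;
`sl6_concl`, `su6_concl` : the conclusions of the two rows.
-/

set_option autoImplicit false

namespace Cfsg.Agent.H918.Six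

open Cfsg Cfsg.Geo Matrix Cfsg.Agent.H915.LD

universe u

variable {F : Type u} [Field F] [Fintype F]

/-- `PSL_3(4)` -/
def IsL34 (T : Type u) [Group T] : Prop :=
  ∃ (K : Type) (_ : Field K) (_ : Fintype K), Fintype.card K = 4 ∧
    Nonempty (T ≃* Matrix.ProjectiveSpecialLinearGroup (Fin 3) K)

/-- `PSU_4(3)` -/
def IsU43 (T : Type u) [Group T] : Prop :=
  ∃ (K : Type) (_ : Field K) (_ : Fintype K), Fintype.card K = 9 ∧ Nonempty (T ≃* Cfsg.PSU 4 K 3)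

/-- number of scalars in `P` -/
noncomputable abbrev nsc (P : Subgroup (GL (Fin 6) F)) : ℕ := Nat.card ((scalars (Fin 6) F).subgroupOf P)

/-- The cores of degree six. -/
def Out6 (p : ℕ) (P : Subgroup (GL (Fin 6) F)) : Prop :=
  SD P ∨
  (Nonempty (Soc P ≃* ProjectiveSpecialLinearGroup (Fin 2) (ZMod 11)) ∧ p ≠ 2 ∧ p ≠ 11 ∧
    (IsSquare (p : ZMod 11) → Fr P p) ∧ (¬ IsSquare (p : ZMod 11) → Cj P p)) ∨
  (Nonempty (Soc P ≃* alternatingGroup (Fin 6)) ∧ 3 ∣ nsc P) ∨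
  (Nonempty (Soc P ≃* alternatingGroup (Fin 7)) ∧ nsc P = 3) ∨
  (Nonempty (Soc P ≃* alternatingGroup (Fin 7)) ∧ nsc P = 6 ∧ p ≠ 2 ∧ p ≠ 3 ∧ Fr P (p ^ 2) ∧
    (p % 24 = 1 ∨ p % 24 = 7 → Fr P p) ∧ (p % 24 = 17 ∨ p % 24 = 23 → Cj P p) ∧
    ∃ g ∈ P, tr g ^ 2 = 2 ∧ tr g⁻¹ = tr g) ∨
  (IsL34 (Soc P) ∧ nsc P = 6 ∧ p ≠ 2 ∧ p ≠ 3 ∧ (p % 3 = 1 → Fr P p) ∧ (p % 3 = 2 → Cj P p)) ∨
  (Cfsg.Spor.IsoM12 (Soc P) ∧ p = 3 ∧ Fr P 3) ∨
  (Cfsg.Spor.IsoM22 (Soc P) ∧ p = 2 ∧ Cj P 2) ∨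
  (IsU43 (Soc P) ∧ p ≠ 3 ∧ (p % 3 = 1 → Fr P p) ∧ (p % 3 = 2 → Cj P p)) ∨
  (p ≠ 2 ∧ (∀ k, ¬ Cj P (p ^ k)) ∧ ∃ (K : Type) (_ : Field K) (_ : Fintype K), Fintype.card K = Fintype.card F ∧
    Nonempty (Soc P ≃* ProjectiveSpecialLinearGroup (Fin 3) K)) ∨
  (p ≠ 2 ∧ ∃ (K : Type) (_ : Field K) (_ : Fintype K) (k : ℕ), Fintype.card K = (p ^ k) ^ 2 ∧
    Fintype.card F = (p ^ k) ^ 2 ∧ Cj P (p ^ k) ∧ Nonempty (Soc P ≃* PSU 3 K (p ^ k))) ∨
  P = specialLinear (Fin 6) F ∨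
  (∃ (K : Type) (_ : Field K) (_ : Fintype K) (k : ℕ), Fintype.card K = (p ^ k) ^ 2 ∧ Cj P (p ^ k) ∧
    Nonempty (Soc P ≃* PSU 6 K (p ^ k)))

/-- a cube root of unity from three scalars -/
theorem exists_omega {P : Subgroup (GL (Fin 6) F)} (h : 3 ∣ nsc P) : ∃ w : F, w ^ 3 = 1 ∧ w ≠ 1 := by
  have : Fact (Nat.Prime 3) := ⟨by norm_num⟩
  obtain ⟨z, hz⟩ := exists_prime_orderOf_dvd_card' (G := (scalars (Fin 6) F).subgroupOf P) 3 h
  have h1 := z.2
  rw [Subgroup.mem_subgroupOf, mem_scalars_iff] at h1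
  obtain ⟨c, hc⟩ := h1
  refine ⟨(c : F), ?_, ?_⟩
  · have h2 : z ^ 3 = 1 := by rw [← hz, pow_orderOf_eq_one]
    have h3 : ((((z ^ 3 : (scalars (Fin 6) F).subgroupOf P) : P) : GL (Fin 6) F) : Matrix (Fin 6) (Fin 6) F) = 1 := by
      rw [h2]; rfl
    have h4 : ((c : F) ^ 3) • (1 : Matrix (Fin 6) (Fin 6) F) = 1 := by
      rw [Subgroup.coe_pow, Subgroup.coe_pow, Units.val_pow_eq_pow_val, hc, smul_pow, one_pow] at h3
      exact h3
    have h5 := congrFun (congrFun h4 0) 0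
    rwa [Matrix.smul_apply, Matrix.one_apply_eq, smul_eq_mul, mul_one] at h5
  · intro h2
    have h3 : z = 1 := by
      apply Subtype.ext
      apply Subtype.ext
      apply Units.ext
      rw [hc]
      change (c : F) • (1 : Matrix (Fin 6) (Fin 6) F) = 1
      rw [h2, one_smul]
    rw [h3, orderOf_one] at hz
    omega

/-- a cube root of unity in the prime field -/
theorem mod_three_of_omega {p : ℕ} [hp : Fact p.Prime] (hF : Fintype.card F = p) {w : F} (h3 : w ^ 3 = 1)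
    (h1 : w ≠ 1) : p % 3 = 1 := by
  have hw0 : w ≠ 0 := by rintro rfl; simp at h3
  have h4 : w ^ (Fintype.card F - 1) = 1 := FiniteField.pow_card_sub_one_eq_one w hw0
  rw [hF] at h4
  have hord : orderOf w = 3 := by
    have h5 : orderOf w ∣ 3 := orderOf_dvd_of_pow_eq_one h3
    rcases (Nat.dvd_prime Nat.prime_three).1 h5 with h | h
    · exact absurd (orderOf_eq_one_iff.1 h) h1
    · exact h
  have h5 : 3 ∣ p - 1 := by rw [← hord]; exact orderOf_dvd_of_pow_eq_one h4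
  have := hp.out.two_le
  omega

omit [Fintype F] in
theorem mod_eight_of_sqrt_two {p : ℕ} [hp : Fact p.Prime] [CharP F p] (hp2 : p ≠ 2) {s : F} (hs : s ^ 2 = 2)
    (hsp : s ^ p = s) : p % 8 = 1 ∨ p % 8 = 7 := by
  -- `s` lies in the prime field
  have h2 : (2 : F) ≠ 0 := by
    intro h
    have h1 : ((2 : ℕ) : F) = 0 := by exact_mod_cast h
    rw [CharP.cast_eq_zero_iff F p] at h1
    exact hp2 ((Nat.prime_dvd_prime_iff_eq hp.out Nat.prime_two).1 h1)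
  have h3 : s ≠ 0 := by
    rintro rfl
    apply h2
    rw [← hs]; simp
  have hodd : p % 2 = 1 := by
    rcases hp.out.eq_two_or_odd with h | h
    · exact absurd h hp2
    · exact h
  have h4 : (2 : F) ^ (p / 2) = 1 := by
    rw [← hs, ← pow_mul]
    have h5 : s ^ p = s ^ (2 * (p / 2)) * s := by
      rw [← pow_succ]
      congr 1
      omega
    rw [h5] at hsp
    have h6 : s ^ (2 * (p / 2)) * s = 1 * s := by rw [hsp, one_mul]
    exact mul_right_cancel₀ h3 h6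
  have h5 : (2 : ZMod p) ^ (p / 2) = 1 := by
    have hinj : Function.Injective (ZMod.castHom (dvd_refl p) F) := RingHom.injective _
    apply hinj
    rw [map_pow, map_one, map_ofNat, h4]
  have h20 : (2 : ZMod p) ≠ 0 := by
    intro h
    have h1 : ((2 : ℕ) : ZMod p) = 0 := by exact_mod_cast h
    rw [ZMod.natCast_eq_zero_iff] at h1
    exact hp2 ((Nat.prime_dvd_prime_iff_eq hp.out Nat.prime_two).1 h1)
  have h6 : IsSquare (2 : ZMod p) := (ZMod.euler_criterion p h20).2 h5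
  exact (ZMod.exists_sq_eq_two_iff hp2).1 h6

theorem square_eleven {p : ℕ} (h : IsSquare (p : ZMod 11)) (h11 : p % 11 ≠ 0) :
    p % 11 = 1 ∨ p % 11 = 3 ∨ p % 11 = 4 ∨ p % 11 = 5 ∨ p % 11 = 9 := by
  have key : ∀ a : ZMod 11, IsSquare a → a = 0 ∨ a = 1 ∨ a = 3 ∨ a = 4 ∨ a = 5 ∨ a = 9 := by
    rintro _ ⟨b, rfl⟩
    revert b
    decide
  have h1 := key _ h
  have h2 : ∀ m : ℕ, (p : ZMod 11) = ((m : ℕ) : ZMod 11) → p % 11 = m % 11 := fun m hm =>
    (ZMod.natCast_eq_natCast_iff' p m 11).1 hm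
  rcases h1 with h | h | h | h | h | h
  · exact absurd (h2 0 (by rw [h]; rfl)) h11
  · left; exact h2 1 (by rw [h]; rfl)
  · right; left; exact h2 3 (by rw [h]; rfl)
  · right; right; left; exact h2 4 (by rw [h]; rfl)
  · right; right; right; left; exact h2 5 (by rw [h]; rfl)
  · right; right; right; right; exact h2 9 (by rw [h]; rfl)

theorem nonsquare_eleven {p : ℕ} (h : ¬ IsSquare (p : ZMod 11)) :
    p % 11 = 2 ∨ p % 11 = 6 ∨ p % 11 = 7 ∨ p % 11 = 8 ∨ p % 11 = 10 := by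
  have key : ∀ a : ZMod 11, ¬ IsSquare a → a = 2 ∨ a = 6 ∨ a = 7 ∨ a = 8 ∨ a = 10 := by
    intro a ha
    by_contra hcon
    apply ha
    revert a
    decide
  have h1 := key _ h
  have h2 : ∀ m : ℕ, (p : ZMod 11) = ((m : ℕ) : ZMod 11) → p % 11 = m % 11 := fun m hm =>
    (ZMod.natCast_eq_natCast_iff' p m 11).1 hm
  rcases h1 with h | h | h | h | h
  · left; exact h2 2 (by rw [h]; rfl)
  · right; left; exact h2 6 (by rw [h]; rfl)
  · right; right; left; exact h2 7 (by rw [h]; rfl)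
  · right; right; right; left; exact h2 8 (by rw [h]; rfl)
  · right; right; right; right; exact h2 10 (by rw [h]; rfl)

/-- **The linear row.** -/
theorem sl6_concl {p : ℕ} [hp : Fact p.Prime] [CharP F p] {H P : Subgroup (GL (Fin 6) F)}
    (hmax : IsMaximalIn (specialLinear (Fin 6) F) H) (hPH : P ≤ H) (hC : Core P) (hsd : ¬ SD P)
    (hcj : ∀ k, ¬ Cj P (p ^ k)) (hout : Out6 p P)
    (k11 : p = 3 → Fintype.card F = 3 → Nonempty (Soc P ≃* ProjectiveSpecialLinearGroup (Fin 2) (ZMod 11)) → False)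
    (k6 : Nonempty (Soc P ≃* alternatingGroup (Fin 6)) → 3 ∣ nsc P → False)
    (k7 : Nonempty (Soc P ≃* alternatingGroup (Fin 7)) → nsc P = 3 → False)
    (k34 : IsL34 (Soc P) → nsc P = 6 → Fintype.card F = p → p % 3 = 1 → p % 8 = 1 ∨ p % 8 = 3) :
    ((Nonempty (Soc P ≃* ProjectiveSpecialLinearGroup (Fin 2) (ZMod 11)) ∧ Fintype.card F = p ∧ p ≠ 3 ∧
        (p % 11 = 1 ∨ p % 11 = 3 ∨ p % 11 = 4 ∨ p % 11 = 5 ∨ p % 11 = 9)) ∨
     (Nonempty (Soc P ≃* alternatingGroup (Fin 7)) ∧ ((Fintype.card F = p ∧ (p % 24 = 1 ∨ p % 24 = 7)) ∨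
        (Fintype.card F = p ^ 2 ∧ (p % 24 = 5 ∨ p % 24 = 11 ∨ p % 24 = 13 ∨ p % 24 = 19)))) ∨
     (IsL34 (Soc P) ∧ Fintype.card F = p ∧ (p % 24 = 1 ∨ p % 24 = 19)) ∨
     (Cfsg.Spor.IsoM12 (Soc P) ∧ Fintype.card F = 3) ∨
     (IsU43 (Soc P) ∧ Fintype.card F = p ∧ (p % 12 = 1 ∨ p % 12 = 7)) ∨
     (Nonempty (Soc P ≃* Matrix.ProjectiveSpecialLinearGroup (Fin 3) F) ∧ Odd (Fintype.card F))) := by
  have hp2 := hp.out.two_le
  have hcj1 : ¬ Cj P p := by
    have := hcj 1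
    rwa [pow_one] at this
  have hpm : ∀ r : ℕ, r.Prime → p ≠ r → p % r ≠ 0 := by
    intro r hr hne h
    exact hne ((Nat.prime_dvd_prime_iff_eq hr hp.out).1 (Nat.dvd_of_mod_eq_zero h)).symm
  rcases hout with h | ⟨he, h2, h11, h3, h4⟩ | ⟨he, h3⟩ | ⟨he, h3⟩ | ⟨he, h6, h2, h3, hfr2, hfr, hcj', g, hg, hg2, hgi⟩ |
    ⟨he, h6, h2, h3, hfr, hcj'⟩ | ⟨he, h3, hfr⟩ | ⟨he, h2, hcj'⟩ | ⟨he, h3, hfr, hcj'⟩ | ⟨h2, -, K, i1, i2, hK, ⟨e⟩⟩ |
    ⟨h2, K, i1, i2, k, hK, hF, hcj', he⟩ | h | ⟨K, i1, i2, k, hK, hcj', he⟩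
  · exact absurd h hsd
  · left
    by_cases hs : IsSquare (p : ZMod 11)
    · have hcard := hC.card_eq p (h3 hs)
      refine ⟨he, hcard, ?_, square_eleven hs (hpm 11 (by norm_num) h11)⟩
      intro h
      exact k11 h (by rw [hcard, h]) he
    · exact absurd (h4 hs) hcj1
  · exact absurd (k6 he h3) not_false
  · exact absurd (k7 he h3) not_false
  · right; left
    refine ⟨he, ?_⟩
    obtain ⟨w, hw3, hw1⟩ := exists_omega (P := P) (by rw [h6]; norm_num)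
    have h8 : p % 2 ≠ 0 := hpm 2 (by norm_num) h2
    have h9 : p % 3 ≠ 0 := hpm 3 (by norm_num) h3
    by_cases h1 : p % 24 = 1 ∨ p % 24 = 7
    · exact Or.inl ⟨hC.card_eq p (hfr h1), h1⟩
    · right
      have h17 : ¬ (p % 24 = 17 ∨ p % 24 = 23) := fun h => hcj1 (hcj' h)
      have hne : Fintype.card F ≠ p := by
        intro hcard
        have h10 := mod_three_of_omega hcard hw3 hw1
        have h11 := mod_eight_of_sqrt_two h2 hg2 (by
          have := FiniteField.pow_card (tr g)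
          rwa [hcard] at this)
        omega
      refine ⟨?_, by omega⟩
      have hle := hC.card_le p two_ne_zero hfr2
      obtain ⟨m, hm, hcard⟩ := FiniteField.card F p
      rw [hcard] at hle hne ⊢
      have h10 : (m : ℕ) ≤ 2 := (Nat.pow_le_pow_iff_right (by omega)).1 hle
      have h11 : (m : ℕ) ≠ 1 := by
        intro h
        rw [h, pow_one] at hne
        exact hne rfl
      have h12 := m.pos
      rw [show (m : ℕ) = 2 by omega]
  · right; right; left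
    have h10 : p % 3 = 1 ∨ p % 3 = 2 := by
      have := hpm 3 (by norm_num) h3
      omega
    rcases h10 with h10 | h10
    · have hcard := hC.card_eq p (hfr h10)
      have h8 := k34 he h6 hcard h10
      exact ⟨he, hcard, by omega⟩
    · exact absurd (hcj' h10) hcj1
  · right; right; right; left
    subst h3
    exact ⟨he, hC.card_eq 3 hfr⟩
  · subst h2
    exact absurd hcj' hcj1
  · right; right; right; right; left
    have h10 : p % 3 = 1 ∨ p % 3 = 2 := by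
      have := hpm 3 (by norm_num) h3
      omega
    rcases h10 with h10 | h10
    · have hcard := hC.card_eq p (hfr h10)
      refine ⟨he, hcard, ?_⟩
      have h11 : p ≠ 2 := by rintro rfl; omega
      have h12 : p % 2 ≠ 0 := hpm 2 (by norm_num) h11
      omega
    · exact absurd (hcj' h10) hcj1
  · right; right; right; right; right
    have hKF : Nonempty (K ≃+* F) := ⟨FiniteField.ringEquivOfCardEq hK⟩
    obtain ⟨f⟩ := hKF
    refine ⟨⟨e.trans (LieClassical.SmallIso.pslCongr (Fin 3) f)⟩, ?_⟩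
    obtain ⟨m, hm, hcard⟩ := FiniteField.card F p
    rw [hcard]
    exact (hp.out.odd_of_ne_two h2).pow
  · exact absurd hcj' (hcj k)
  · exfalso
    subst h
    exact absurd (lt_of_le_of_lt hPH hmax.1) (lt_irrefl _)
  · exact absurd hcj' (hcj k)

/-- **The unitary row.** -/
theorem su6_concl {q : ℕ} (hF : Fintype.card F = q ^ 2) {p : ℕ} [hp : Fact p.Prime] [CharP F p]
    {H P : Subgroup (GL (Fin 6) F)}
    (hmax : IsMaximalIn (GU 6 F q ⊓ specialLinear (Fin 6) F) H) (hPH : P ≤ H) (hC : Core P) (hsd : ¬ SD P)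
    (hcjq : Cj P q) (hout : Out6 p P)
    (hnat : ∀ (K : Type) (_ : Field K) (_ : Fintype K) (k : ℕ), Fintype.card K = (p ^ k) ^ 2 →
      Nonempty (Soc P ≃* PSU 6 K (p ^ k)) → P = GU 6 F q ⊓ specialLinear (Fin 6) F)
    (k6 : Nonempty (Soc P ≃* alternatingGroup (Fin 6)) → 3 ∣ nsc P → False)
    (k7 : Nonempty (Soc P ≃* alternatingGroup (Fin 7)) → nsc P = 3 → False)
    (k34 : IsL34 (Soc P) → nsc P = 6 → q = p → p % 3 = 2 → p % 8 = 5 ∨ p % 8 = 7) :
    ((Nonempty (Soc P ≃* ProjectiveSpecialLinearGroup (Fin 2) (ZMod 11)) ∧ q.Prime ∧ q ≠ 2 ∧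
        (q % 11 = 2 ∨ q % 11 = 6 ∨ q % 11 = 7 ∨ q % 11 = 8 ∨ q % 11 = 10)) ∨
     (Nonempty (Soc P ≃* alternatingGroup (Fin 7)) ∧ q.Prime ∧ (q % 24 = 17 ∨ q % 24 = 23)) ∨
     (IsL34 (Soc P) ∧ q.Prime ∧ (q % 24 = 5 ∨ q % 24 = 23)) ∨
     (Cfsg.Spor.IsoM22 (Soc P) ∧ q = 2) ∨
     (IsU43 (Soc P) ∧ (q = 2 ∨ (q.Prime ∧ (q % 12 = 5 ∨ q % 12 = 11)))) ∨
     (Nonempty (Soc P ≃* Cfsg.PSU 3 F q) ∧ Odd q)) := by
  have hp2 := hp.out.two_le
  have hpm : ∀ r : ℕ, r.Prime → p ≠ r → p % r ≠ 0 := by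
    intro r hr hne h
    exact hne ((Nat.prime_dvd_prime_iff_eq hr hp.out).1 (Nat.dvd_of_mod_eq_zero h)).symm
  have hfrp : ¬ Fr P p := not_fr_of_card hC p hF
  rcases hout with h | ⟨he, h2, h11, h3, h4⟩ | ⟨he, h3⟩ | ⟨he, h3⟩ | ⟨he, h6, h2, h3, hfr2, hfr, hcj', g, hg, hg2, hgi⟩ |
    ⟨he, h6, h2, h3, hfr, hcj'⟩ | ⟨he, h3, hfr⟩ | ⟨he, h2, hcj'⟩ | ⟨he, h3, hfr, hcj'⟩ |
    ⟨h2, hnc, K, i1, i2, hK, ⟨e⟩⟩ | ⟨h2, K, i1, i2, k, hK, hF', hcj', ⟨e⟩⟩ | h | ⟨K, i1, i2, k, hK, hcj', he⟩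
  · exact absurd h hsd
  · left
    by_cases hs : IsSquare (p : ZMod 11)
    · exact absurd (h3 hs) hfrp
    · have hq := q_eq_of_cj hC p hF (h4 hs)
      rw [hq]
      exact ⟨he, hp.out, h2, nonsquare_eleven hs⟩
  · exact absurd (k6 he h3) not_false
  · exact absurd (k7 he h3) not_false
  · right; left
    have hq := q_eq_of_fr hC p hF hfr2
    subst hq
    obtain ⟨w, hw3, hw1⟩ := exists_omega (P := P) (by rw [h6]; norm_num)
    have h8 : q % 2 ≠ 0 := hpm 2 (by norm_num) h2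
    have h9 : q % 3 ≠ 0 := hpm 3 (by norm_num) h3
    have h10 : q % 8 = 1 ∨ q % 8 = 7 := mod_eight_of_sqrt_two h2 hg2 (by rw [hcjq g hg, hgi])
    have h11 : ¬ (q % 24 = 1 ∨ q % 24 = 7) := fun h => hfrp (hfr h)
    exact ⟨he, hp.out, by omega⟩
  · right; right; left
    have h10 : p % 3 = 1 ∨ p % 3 = 2 := by
      have := hpm 3 (by norm_num) h3
      omega
    rcases h10 with h10 | h10
    · exact absurd (hfr h10) hfrp
    · have hq := q_eq_of_cj hC p hF (hcj' h10)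
      have h8 := k34 he h6 hq h10
      rw [hq]
      exact ⟨he, hp.out, by omega⟩
  · subst h3
    exact absurd hfr hfrp
  · right; right; right; left
    subst h2
    exact ⟨he, q_eq_of_cj hC 2 hF hcj'⟩
  · right; right; right; right; left
    have h10 : p % 3 = 1 ∨ p % 3 = 2 := by
      have := hpm 3 (by norm_num) h3
      omega
    rcases h10 with h10 | h10
    · exact absurd (hfr h10) hfrp
    · have hq := q_eq_of_cj hC p hF (hcj' h10)
      rw [hq]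
      refine ⟨he, ?_⟩
      by_cases h2 : p = 2
      · exact Or.inl h2
      · right
        have h12 : p % 2 ≠ 0 := hpm 2 (by norm_num) h2
        exact ⟨hp.out, by omega⟩
  · exfalso
    obtain ⟨m, hm, hcard⟩ := FiniteField.card F p
    rw [hF] at hcard
    have h1 : ∃ k, q = p ^ k := by
      have : q ∣ p ^ (m : ℕ) := ⟨q, by rw [← hcard, pow_two]⟩
      obtain ⟨k, -, hk⟩ := (Nat.dvd_prime_pow hp.out).1 this
      exact ⟨k, hk⟩
    obtain ⟨k, hk⟩ := h1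
    rw [hk] at hcjq
    exact hnc k hcjq
  · right; right; right; right; right
    have hq : p ^ k = q := by
      have h1 : q ^ 2 = (p ^ k) ^ 2 := by rw [← hF, hF']
      exact (Nat.pow_left_injective (n := 2) (by norm_num) h1).symm
    have hKF : Nonempty (K ≃+* F) := ⟨FiniteField.ringEquivOfCardEq (by rw [hK, hF'])⟩
    obtain ⟨f⟩ := hKF
    subst hq
    exact ⟨⟨e.trans (LieClassical.FieldTransfer.psuCongr 3 (p ^ k) f)⟩, (hp.out.odd_of_ne_two h2).pow⟩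
  · exfalso
    have h1 : P < specialLinear (Fin 6) F := lt_of_lt_of_le (lt_of_le_of_lt hPH hmax.1) inf_le_right
    rw [h] at h1
    exact lt_irrefl _ h1
  · exfalso
    have h1 := hnat K i1 i2 k hK he
    have h2 := lt_of_le_of_lt hPH hmax.1
    rw [h1] at h2
    exact lt_irrefl _ h2

end Cfsg.Agent.H918.Six
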