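import Cfsg.Agent.H882.Del.Dim
import Cfsg.Agent.CoThreeStd.MTwelve
import Cfsg.Agent.H6.M11.Stage12

/-!
# The Mathieu group of degree 12 has no faithful representation of degree 6, characteristic not 2 (helper918)

A four-group and an elementary abelian group of order 8 all of whose involutions are conjugate:
`not_six` : a core of dimension six is not isomorphic to the group, characteristic `≠ 2`.
-/

set_option autoImplicit false
set_option linter.unusedSectionVars false

namespace Cfsg.Agent.H918.Six.M12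

open Module Cfsg.Agent.H637.JW Cfsg.Agent.H882.Dim

section dims

variable {K : Type*} [Field K] {V : Type*} [AddCommGroup V] [Module K V] [FiniteDimensional K V]
  {G : Type*} [Group G] {σ : G →* Module.End K V}

/-- four-groups on an invariant subspace -/
theorem kleinU (h2 : (2 : K) ≠ 0) {a b : G} (ha : a * a = 1) (hb : b * b = 1) (hab : a * b = b * a)
    (U : Submodule K V) (hUa : ∀ v ∈ U, σ a v ∈ U) (hUb : ∀ v ∈ U, σ b v ∈ U) :
    finrank K (U ⊓ Fix σ a : Submodule K V) + finrank K (U ⊓ Fix σ b : Submodule K V) +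
      finrank K (U ⊓ Fix σ (a * b) : Submodule K V) =
    2 * finrank K (U ⊓ (Fix σ a ⊓ Fix σ b) : Submodule K V) + finrank K U := by
  have hc : ∀ v, σ a (σ b v) = σ b (σ a v) := fun v => by rw [← mul_apply', hab, mul_apply']
  have hbb : ∀ v, σ b (σ b v) = v := fun v => by rw [← mul_apply', hb, act_one]
  have s1 := split_two (σ := σ) h2 hb (U ⊓ Fix σ a) (fun v hv => ⟨hUb v hv.1, mem_Fix.2 (by
    rw [hc, mem_Fix.1 hv.2])⟩)
  have s2 := split_two (σ := σ) h2 ha (U ⊓ Fix σ b) (fun v hv => ⟨hUa v hv.1, mem_Fix.2 (by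
    rw [← hc, mem_Fix.1 hv.2])⟩)
  have s3 := split_two (σ := σ) h2 ha (U ⊓ Fix σ (a * b)) (fun v hv => ⟨hUa v hv.1, mem_Fix.2 (by
    have h3 := mem_Fix.1 hv.2
    rw [mul_apply'] at h3
    rw [mul_apply', ← hc, h3])⟩)
  have s4 := split_two (σ := σ) h2 hb (U ⊓ An σ a) (fun v hv => ⟨hUb v hv.1, mem_An.2 (by
    rw [hc, mem_An.1 hv.2, map_neg])⟩)
  have s5 := split_two (σ := σ) h2 ha U hUa
  have e0 : U ⊓ Fix σ a ⊓ Fix σ b = U ⊓ (Fix σ a ⊓ Fix σ b) := inf_assoc _ _ _
  have e1 : U ⊓ Fix σ b ⊓ Fix σ a = U ⊓ (Fix σ a ⊓ Fix σ b) := by rw [inf_assoc, inf_comm (Fix σ b)]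
  have e2 : U ⊓ Fix σ (a * b) ⊓ Fix σ a = U ⊓ (Fix σ a ⊓ Fix σ b) := by
    ext v
    simp only [Submodule.mem_inf, mem_Fix, mul_apply']
    constructor
    · rintro ⟨⟨h0, h1⟩, h3⟩
      refine ⟨h0, h3, ?_⟩
      rw [hc, h3] at h1
      exact h1
    · rintro ⟨h0, h1, h3⟩
      exact ⟨⟨h0, by rw [h3, h1]⟩, h1⟩
  have e3 : U ⊓ Fix σ (a * b) ⊓ An σ a = U ⊓ An σ a ⊓ An σ b := by
    ext v
    simp only [Submodule.mem_inf, mem_Fix, mem_An, mul_apply']
    constructor
    · rintro ⟨⟨h0, h1⟩, h3⟩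
      refine ⟨⟨h0, h3⟩, ?_⟩
      rw [hc, h3, map_neg] at h1
      exact neg_eq_iff_eq_neg.1 h1
    · rintro ⟨⟨h0, h1⟩, h3⟩
      exact ⟨⟨h0, by rw [h3, map_neg, h1, neg_neg]⟩, h1⟩
  have e4 : U ⊓ Fix σ b ⊓ An σ a = U ⊓ An σ a ⊓ Fix σ b := by
    rw [inf_assoc, inf_assoc, inf_comm (Fix σ b)]
  rw [e0] at s1
  rw [e1, e4] at s2
  rw [e2, e3] at s3
  omega

theorem klein_top (h2 : (2 : K) ≠ 0) {a b : G} (ha : a * a = 1) (hb : b * b = 1) (hab : a * b = b * a) :
    finrank K (Fix σ a) + finrank K (Fix σ b) + finrank K (Fix σ (a * b)) =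
    2 * finrank K (Fix σ a ⊓ Fix σ b : Submodule K V) + finrank K V := by
  have h := kleinU (σ := σ) h2 ha hb hab ⊤ (fun _ _ => trivial) (fun _ _ => trivial)
  rwa [top_inf_eq, top_inf_eq, top_inf_eq, top_inf_eq, finrank_top] at h

/-- an elementary abelian group of order eight with conjugate involutions -/
theorem eight (h2 : (2 : K) ≠ 0) {a b c : G} (ha : a * a = 1) (hb : b * b = 1) (hc : c * c = 1)
    (hab : a * b = b * a) (hac : a * c = c * a) (hbc : b * c = c * b) {f : ℕ}
    (fa : finrank K (Fix σ a) = f) (fb : finrank K (Fix σ b) = f) (fc : finrank K (Fix σ c) = f)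
    (fab : finrank K (Fix σ (a * b)) = f) (fac : finrank K (Fix σ (a * c)) = f) (fbc : finrank K (Fix σ (b * c)) = f)
    (fabc : finrank K (Fix σ (a * (b * c))) = f) :
    ∃ k, 4 * k + 3 * finrank K V = 7 * f := by
  have habc : a * (b * c) = b * c * a := by rw [← mul_assoc, hab, mul_assoc, hac, ← mul_assoc]
  have hbcc : b * c * (b * c) = 1 := by
    calc b * c * (b * c) = b * (c * b) * c := by group
      _ = b * b * (c * c) := by rw [← hbc]; group
      _ = 1 := by rw [hb, hc, one_mul]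
  have k1 := klein_top (σ := σ) h2 ha hb hab
  have k2 := klein_top (σ := σ) h2 ha hc hac
  have k3 := klein_top (σ := σ) h2 ha hbcc habc
  have k4 := kleinU (σ := σ) h2 hb hc hbc (Fix σ a)
    (fun v hv => by rw [mem_Fix, ← mul_apply', hab, mul_apply', mem_Fix.1 hv])
    (fun v hv => by rw [mem_Fix, ← mul_apply', hac, mul_apply', mem_Fix.1 hv])
  exact ⟨finrank K (Fix σ a ⊓ (Fix σ b ⊓ Fix σ c) : Submodule K V), by omega⟩

end dims

/-! ### the group of degree 12 -/

open Cfsg Cfsg.Agent.CoThreeStd.MTwelve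

def wa : List ℕ := [3, 1]
def wb : List ℕ := [5, 4, 2, 5]
def wc : List ℕ := [1, 0, 5, 4, 2, 5, 1, 0]

theorem one_of {l : List ℕ} (h : eqW l [] = true) : wd l = 1 := wd_eq h

theorem mul_of {l m : List ℕ} : wd l * wd m = wd (l ++ m) := (wd_append l m).symm

theorem conj_of {x m t : List ℕ} (h : eqW (m ++ t) (x ++ m) = true) : wd m * wd t * (wd m)⁻¹ = wd x := by
  have h1 := wd_eq h
  rw [wd_append, wd_append] at h1
  rw [h1, mul_inv_cancel_right]

section rep

variable {K : Type*} [Field K] {V : Type*} [AddCommGroup V] [Module K V] [FiniteDimensional K V]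
  {σ : Spor.M12 →* Module.End K V}

theorem fix_of {x m t : List ℕ} (h : eqW (m ++ t) (x ++ m) = true) :
    finrank K (Fix σ (wd t)) = finrank K (Fix σ (wd x)) := by
  rw [← conj_of h, finrank_Fix_conj]

theorem trivial_of_six (h2 : (2 : K) ≠ 0) (hV : finrank K V = 6) : σ (wd wa) = 1 := by
  have k1 := eight (σ := σ) (K := K) (V := V) h2 (a := wd wa) (b := wd wb) (c := wd wc)
    (by rw [mul_of]; exact one_of (by decide +kernel))
    (by rw [mul_of]; exact one_of (by decide +kernel))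
    (by rw [mul_of]; exact one_of (by decide +kernel))
    (by rw [mul_of, mul_of]; exact wd_eq (by decide +kernel))
    (by rw [mul_of, mul_of]; exact wd_eq (by decide +kernel))
    (by rw [mul_of, mul_of]; exact wd_eq (by decide +kernel)) rfl
    (fix_of (m := [4, 3, 2, 1, 5]) (by decide +kernel))
    (fix_of (m := [2, 5, 2, 0, 5, 0]) (by decide +kernel))
    (by rw [mul_of]; exact fix_of (m := [5, 1, 2, 3, 4, 1]) (by decide +kernel))
    (by rw [mul_of]; exact fix_of (m := [5, 1, 2, 3, 4, 0]) (by decide +kernel))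
    (by rw [mul_of]; exact fix_of (m := [5, 2, 0, 5, 0]) (by decide +kernel))
    (by rw [mul_of, mul_of]; exact fix_of (m := [5, 2, 0, 5]) (by decide +kernel))
  obtain ⟨k, hk⟩ := k1
  have h1 : finrank K (Fix σ (wd wa)) ≤ finrank K V := Submodule.finrank_le _
  have h3 : finrank K (Fix σ (wd wa)) = finrank K V := by omega
  have h4 : Fix σ (wd wa) = ⊤ := Submodule.eq_top_of_finrank_eq h3
  ext v
  have : v ∈ Fix σ (wd wa) := by rw [h4]; trivial
  rw [mem_Fix] at this
  exact this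

end rep

theorem wa_ne_one : wd wa ≠ 1 := by
  rw [← wd_nil]
  exact wd_ne 1 (by norm_num) (by decide +kernel)

open Matrix Cfsg.Geo Cfsg.Agent.H915.LD

universe u

variable {ι : Type} [Fintype ι] [DecidableEq ι] {F : Type u} [Field F] {P : Subgroup (GL ι F)}

/-- **No core of dimension six is isomorphic to the group of degree 12.** -/
theorem not_six (h2 : (2 : F) ≠ 0) (hn : Fintype.card ι = 6) (e : P ≃* Spor.M12) : False := by
  let σ : Spor.M12 →* Module.End F (ι → F) :=
    ((Matrix.toLinAlgEquiv' (R := F) (n := ι)).toMonoidHom.comp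
      ((Units.coeHom (Matrix ι ι F)).comp P.subtype)).comp e.symm.toMonoidHom
  have h1 := trivial_of_six (σ := σ) h2 (by rw [Module.finrank_fintype_fun_eq_card, hn])
  apply wa_ne_one
  have h3 : ((e.symm (wd wa) : P) : GL ι F) = 1 := by
    apply Units.ext
    exact (Matrix.toLinAlgEquiv' (R := F) (n := ι)).injective (h1.trans (map_one _).symm)
  have h4 : e.symm (wd wa) = 1 := Subtype.ext h3
  exact (MulEquiv.map_eq_one_iff e.symm).1 h4

end Cfsg.Agent.H918.Six.M12
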