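import Cfsg.Agent.H918.Six.Asm
import Cfsg.Agent.H218.SdDC
import Cfsg.Agent.H875.DefCov
import Cfsg.Agent.H887.DS.Low
import Cfsg.Agent.H887.DS.SixTen
import Cfsg.Agent.H887.DS.SixFive
import Cfsg.Agent.H929.UThreeMain
import Cfsg.Agent.H48.NatSUEq
import Cfsg.Agent.H571.JGU

/-!
# Dimension six, own characteristic (helper918)

`own6_sl` : the linear row, `own6_su` : the unitary row (given the facts on `PSU_4`, `PSU_5` in degree six).
-/

set_option autoImplicit false
set_option linter.unusedSectionVars false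

namespace Cfsg.Agent.H918.Six

open Cfsg Cfsg.Geo Matrix Cfsg.Agent.H915.LD

universe u

variable {F : Type u} [Field F] [Fintype F]

/-- isometries of the unitary form: the dual is the conjugate -/
theorem cj_of_le_GU {q : ℕ} (hF : Fintype.card F = q ^ 2) {P : Subgroup (GL (Fin 6) F)} (hP : P ≤ GU 6 F q) :
    Cj P q := by
  obtain ⟨p, hp, hFp⟩ : ∃ p : ℕ, p.Prime ∧ CharP F p := by
    obtain ⟨p, hp⟩ := CharP.exists F
    exact ⟨p, (CharP.char_is_prime_or_zero F p).resolve_right (CharP.char_ne_zero_of_finite F p), hp⟩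
  have := Fact.mk hp
  obtain ⟨m, hm, hcard⟩ := FiniteField.card F p
  rw [hF] at hcard
  have h1 : ∃ k, q = p ^ k := by
    have : q ∣ p ^ (m : ℕ) := ⟨q, by rw [← hcard, pow_two]⟩
    obtain ⟨k, -, hk⟩ := (Nat.dvd_prime_pow hp).1 this
    exact ⟨k, hk⟩
  obtain ⟨k, hk⟩ := h1
  let σ : F ≃+* F := RingEquiv.ofBijective (iterateFrobenius F p k) (Finite.injective_iff_bijective.1
    (RingHom.injective _))
  have hσ : ∀ x, σ x = x ^ q := fun x => by
    rw [hk]
    exact iterateFrobenius_def ..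
  intro g hg
  have h2 := (H571.JUnit.mem_GU_iff hσ).1 (hP hg)
  rw [H571.JUnit.mem_UU] at h2
  have h3 : ((g : GL (Fin 6) F) : Matrix (Fin 6) (Fin 6) F).map σ = (((g⁻¹ : GL (Fin 6) F) : Matrix (Fin 6) (Fin 6) F))ᵀ := by
    have h4 : (((g⁻¹ : GL (Fin 6) F) : Matrix (Fin 6) (Fin 6) F))ᵀ * ((g : Matrix (Fin 6) (Fin 6) F))ᵀ = 1 := by
      rw [← Matrix.transpose_mul, ← Units.val_mul, mul_inv_cancel, Units.val_one, Matrix.transpose_one]
    calc ((g : GL (Fin 6) F) : Matrix (Fin 6) (Fin 6) F).map σ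
        = ((((g⁻¹ : GL (Fin 6) F) : Matrix (Fin 6) (Fin 6) F))ᵀ * ((g : Matrix (Fin 6) (Fin 6) F))ᵀ) *
          ((g : Matrix (Fin 6) (Fin 6) F)).map σ := by rw [h4, one_mul]
      _ = _ := by rw [Matrix.mul_assoc, h2, mul_one]
  have h5 := congrArg Matrix.trace h3
  rw [Matrix.trace_transpose] at h5
  change (g : Matrix (Fin 6) (Fin 6) F).trace ^ q = _
  rw [← hσ]
  change _ = ((g⁻¹ : GL (Fin 6) F) : Matrix (Fin 6) (Fin 6) F).trace
  rw [← h5]
  exact AddMonoidHom.map_trace σ.toRingHom.toAddMonoidHom _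

variable {P : Subgroup (GL (Fin 6) F)}

/-- **`PSL_m` in its own characteristic, degree six.** -/
theorem own6_psl (p : ℕ) [hp : Fact p.Prime] [CharP F p] (hC : Core P) {K : Type} [Field K] [Fintype K] [CharP K p]
    {l : ℕ} (hl : 1 ≤ l) (hK : l = 1 → 4 ≤ Nat.card K)
    (e : Soc P ≃* ProjectiveSpecialLinearGroup (Fin (l + 1)) K) : Out6 p P := by
  have h1 := H905.Md.psl_rank p hC.absIrred hC.perfect hl hK e
  rw [Fintype.card_fin] at h1
  have h2 : l = 1 ∨ l = 2 ∨ l = 3 ∨ l = 4 ∨ l = 5 := by omega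
  have h6 : Fintype.card (Fin 6) = 6 := Fintype.card_fin 6
  rcases h2 with rfl | rfl | rfl | rfl | rfl
  · left
    exact H875.DefCov.sd_of_psl2 hC p (by have := hK rfl; omega) e
  · rcases H887.DS.field3 p hC e (Or.inl h6) with h | ⟨h3, -, h4, h5⟩
    · exact Or.inl h
    · right; right; right; right; right; right; right; right; right; left
      refine ⟨by omega, h5, K, inferInstance, inferInstance, ?_, ⟨e⟩⟩
      rw [← Nat.card_eq_fintype_card, h4, Nat.card_eq_fintype_card]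
  · left
    exact H887.DS.six4 p hC e h6
  · exfalso
    have := H887.DS.dim_cases p hC (m := 5) (by omega) (by rw [h6]; norm_num) (by rw [h6]; norm_num) e
    rw [h6] at this
    omega
  · right; right; right; right; right; right; right; right; right; right; right; left
    exact (H905.Md.psl_eq p hC.absIrred hC.perfect hl hK e hC.no_subfield rfl).2

theorem exists_pow_of_sq {p : ℕ} [hp : Fact p.Prime] {K : Type} [Field K] [Fintype K] [CharP K p] {q : ℕ}
    (hK : Fintype.card K = q ^ 2) : ∃ k, q = p ^ k := by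
  obtain ⟨m, hm, hcard⟩ := FiniteField.card K p
  rw [hK] at hcard
  have : q ∣ p ^ (m : ℕ) := ⟨q, by rw [← hcard, pow_two]⟩
  obtain ⟨k, -, hk⟩ := (Nat.dvd_prime_pow hp.out).1 this
  exact ⟨k, hk⟩

/-- **Own characteristic, linear row.** -/
theorem own6_sl (p : ℕ) [hp : Fact p.Prime] [CharP F p] (hC : Core P) (hL : IsLieTypeChar p (Soc P)) :
    (∃ k, Cj P (p ^ k)) ∨ Out6 p P := by
  have h6 : Fintype.card (Fin 6) = 6 := Fintype.card_fin 6
  rcases H218.SdDC.sd_dc p hC (by rw [h6]; norm_num) hL with h | ⟨K, i1, i2, i3, l, hl, hK, ⟨e⟩⟩ |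
    ⟨K, i1, i2, i3, N, q, hK, hN3, hN, h32, ⟨e⟩⟩ | ⟨h, -⟩
  · exact Or.inr (Or.inl h)
  · exact Or.inr (own6_psl p hC hl hK e)
  · left
    obtain ⟨k, rfl⟩ := exists_pow_of_sq (p := p) hK
    exact ⟨k, H929.U3.core_psu_cj p hC hN3 hK h32 e⟩
  · rw [h6] at h; omega

/-- **Own characteristic, unitary row.** -/
theorem own6_su (p : ℕ) [hp : Fact p.Prime] [CharP F p] (hC : Core P) (hL : IsLieTypeChar p (Soc P)) {q' : ℕ}
    (hF : Fintype.card F = q' ^ 2) (hP : P ≤ GU 6 F q')
    (h45 : ∀ (K : Type) (_ : Field K) (_ : Fintype K) (_ : CharP K p) (N q : ℕ), Fintype.card K = q ^ 2 →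
      (N = 4 ∨ N = 5) → (Soc P ≃* PSU N K q) → SD P) : Out6 p P := by
  have h6 : Fintype.card (Fin 6) = 6 := Fintype.card_fin 6
  rcases H218.SdDC.sd_dc p hC (by rw [h6]; norm_num) hL with h | ⟨K, i1, i2, i3, l, hl, hK, ⟨e⟩⟩ |
    ⟨K, i1, i2, i3, N, q, hK, hN3, hN, h32, ⟨e⟩⟩ | ⟨h, -⟩
  · exact Or.inl h
  · exact own6_psl p hC hl hK e
  · have h1 := (H48.NatSU.psu_le hC p hF hP hK hN3 h32 e).2
    have hcj := H929.U3.core_psu_cj p hC hN3 hK h32 e
    have h2 : N = 3 ∨ (N = 4 ∨ N = 5) ∨ N = 6 := by omega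
    rcases h2 with rfl | h2 | rfl
    · have hq2 := H48.NatSU.two_le_of_sq hK
      have hq3 : 3 ≤ q := by
        rcases (show q = 2 ∨ 3 ≤ q by omega) with h | h
        · exact absurd ⟨rfl, h⟩ h32
        · exact h
      rcases H929.U3.core_psu3 p hC hq3 hK e (by rw [h6]; norm_num) with h | ⟨h3, h | ⟨-, h4⟩ | ⟨h, -⟩ | ⟨h, -⟩⟩
      · exact Or.inl h
      · rw [h6] at h; omega
      · obtain ⟨k, rfl⟩ := exists_pow_of_sq (p := p) hK
        right; right; right; right; right; right; right; right; right; right; left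
        exact ⟨h4, K, i1, i2, k, hK, by rw [← Nat.card_eq_fintype_card]; exact h3, hcj, ⟨e⟩⟩
      · rw [h6] at h; omega
      · rw [h6] at h; omega
    · exact Or.inl (h45 K i1 i2 i3 N q hK h2 e)
    · obtain ⟨k, rfl⟩ := exists_pow_of_sq (p := p) hK
      right; right; right; right; right; right; right; right; right; right; right; right
      exact ⟨K, i1, i2, k, hK, hcj, ⟨e⟩⟩
  · rw [h6] at h; omega

end Cfsg.Agent.H918.Six
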