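import Cfsg.Agent.H918.Six.Own
import Cfsg.Agent.H890.A7.SixOut
import Cfsg.Agent.H910.Six.A6Main
import Cfsg.Agent.H830.A6.Main
import Cfsg.Agent.H830.L11Main
import Cfsg.Agent.H913.N6Final

/-!
# Dimension six: the rows S5800 and S5803, given the cross-characteristic list (helper918)
-/

set_option autoImplicit false
set_option linter.unusedSectionVars false

namespace Cfsg.Agent.H918.Six

open Cfsg Cfsg.Geo Matrix Cfsg.Agent.H915.LD

universe u

variable {F : Type u} [Field F] [Fintype F]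

theorem exists_char' (F : Type u) [Field F] [Fintype F] : ∃ p : ℕ, p.Prime ∧ CharP F p := by
  obtain ⟨p, hp⟩ := CharP.exists F
  exact ⟨p, CharP.char_is_prime F p, hp⟩

/-- a scalar of order three -/
theorem exists_sc_three {P : Subgroup (GL (Fin 6) F)} (h : 3 ∣ nsc P) :
    ∃ c : Fˣ, c ≠ 1 ∧ c ^ 3 = 1 ∧ (H913.N6.sc c : GL (Fin 6) F) ∈ P := by
  have : Fact (Nat.Prime 3) := ⟨by norm_num⟩
  obtain ⟨z, hz⟩ := exists_prime_orderOf_dvd_card' (G := (scalars (Fin 6) F).subgroupOf P) 3 h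
  have h1 := z.2
  rw [Subgroup.mem_subgroupOf, H913.N6.mem_scalars] at h1
  obtain ⟨c, hc⟩ := h1
  refine ⟨c, ?_, ?_, by rw [← hc]; exact (z : P).2⟩
  · rintro rfl
    have h3 : z = 1 := by
      apply Subtype.ext
      apply Subtype.ext
      rw [hc]
      apply Units.ext
      rw [H913.N6.coe_sc, Units.val_one, one_smul]
      rfl
    rw [h3, orderOf_one] at hz
    omega
  · have h2 : z ^ 3 = 1 := by rw [← hz, pow_orderOf_eq_one]
    have h3 : ((((z ^ 3 : (scalars (Fin 6) F).subgroupOf P) : P) : GL (Fin 6) F)) = 1 := by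
      rw [h2]; rfl
    have h4 : (H913.N6.sc (c ^ 3) : GL (Fin 6) F) = H913.N6.sc 1 := by
      rw [H913.N6.sc_pow, ← hc]
      rw [Subgroup.coe_pow, Subgroup.coe_pow] at h3
      rw [h3]
      apply Units.ext
      rw [H913.N6.coe_sc, Units.val_one, Units.val_one, one_smul]
    have h5 := congrArg (fun g : GL (Fin 6) F => (g : Matrix (Fin 6) (Fin 6) F) 0 0) h4
    simp only [H913.N6.coe_sc, Matrix.smul_apply, Matrix.one_apply_eq, smul_eq_mul, mul_one] at h5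
    exact Units.ext h5

/-- three scalars: `-1 ∉ P` -/
theorem neg_notMem {P : Subgroup (GL (Fin 6) F)} (h : nsc P = 3) : (-1 : GL (Fin 6) F) ∉ P ∨ (2 : F) = 0 := by
  by_contra hcon
  push Not at hcon
  obtain ⟨h1, h2⟩ := hcon
  have h3 : (-1 : GL (Fin 6) F) ∈ scalars (Fin 6) F := by
    rw [H913.N6.mem_scalars]
    refine ⟨-1, ?_⟩
    apply Units.ext
    rw [H913.N6.coe_sc, Units.val_neg, Units.val_one, Units.val_neg, Units.val_one, neg_smul, one_smul]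
  let z : (scalars (Fin 6) F).subgroupOf P := ⟨⟨-1, h1⟩, Subgroup.mem_subgroupOf.2 h3⟩
  have h4 : z ^ 2 = 1 := by
    apply Subtype.ext
    apply Subtype.ext
    change (-1 : GL (Fin 6) F) ^ 2 = 1
    rw [neg_one_sq]
  have h5 : z ^ 3 = 1 := by
    rw [← h]
    exact pow_card_eq_one'
  have h6 : z = 1 := by
    have : z ^ 3 = z ^ 2 * z := pow_succ z 2
    rw [h5, h4, one_mul] at this
    exact this.symm
  have h7 : (-1 : GL (Fin 6) F) = 1 := congrArg (fun t => ((t : P) : GL (Fin 6) F)) (congrArg Subtype.val h6)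
  have h8 := congrArg (fun g : GL (Fin 6) F => (g : Matrix (Fin 6) (Fin 6) F) 0 0) h7
  simp only [Units.val_neg, Units.val_one, Matrix.neg_apply, Matrix.one_apply_eq] at h8
  apply h2
  have h9 : (1 : F) + 1 = 0 := by
    nth_rw 1 [← h8]
    ring
  rw [← one_add_one_eq_two]
  exact h9

/-- The cores of degree six, cross characteristic; `A₆` and `A₇` without further facts. -/
def Out6x (p : ℕ) (P : Subgroup (GL (Fin 6) F)) : Prop :=
  Nonempty (Soc P ≃* alternatingGroup (Fin 7)) ∨ Nonempty (Soc P ≃* alternatingGroup (Fin 6)) ∨ Out6 p P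

/-- the fields of `6.A₇`, linear case -/
theorem a7_sl {p : ℕ} [hp : Fact p.Prime] [CharP F p] {P : Subgroup (GL (Fin 6) F)} (hC : Core P)
    (hcj : ¬ Cj P p) (hw : ∃ w : F, w ^ 3 = 1 ∧ w ≠ 1) (h : H890.A7.Facts P p) :
    (Fintype.card F = p ∧ (p % 24 = 1 ∨ p % 24 = 7)) ∨
      (Fintype.card F = p ^ 2 ∧ (p % 24 = 5 ∨ p % 24 = 11 ∨ p % 24 = 13 ∨ p % 24 = 19)) := by
  have hp2 := hp.out.two_le
  have hpm : ∀ r : ℕ, r.Prime → p ≠ r → p % r ≠ 0 := by
    intro r hr hne h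
    exact hne ((Nat.prime_dvd_prime_iff_eq hr hp.out).1 (Nat.dvd_of_mod_eq_zero h)).symm
  obtain ⟨h2, h3, hfr2, hfr, hcj', g, hg, hg2, hgi⟩ := h
  obtain ⟨w, hw3, hw1⟩ := hw
  have h8 : p % 2 ≠ 0 := hpm 2 (by norm_num) h2
  have h9 : p % 3 ≠ 0 := hpm 3 (by norm_num) h3
  by_cases h1 : p % 24 = 1 ∨ p % 24 = 7
  · exact Or.inl ⟨hC.card_eq p (hfr h1), h1⟩
  · right
    have h17 : ¬ (p % 24 = 17 ∨ p % 24 = 23) := fun h => hcj (hcj' h)
    have hne : Fintype.card F ≠ p := by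
      intro hcard
      have h10 := mod_three_of_omega hcard hw3 hw1
      have h11 := mod_eight_of_sqrt_two h2 hg2 (by
        have := FiniteField.pow_card (tr g)
        rwa [hcard] at this)
      omega
    refine ⟨?_, by omega⟩
    have hle := hC.card_le p two_ne_zero hfr2
    obtain ⟨m, hm, hcard⟩ := FiniteField.card F p
    rw [hcard] at hle hne ⊢
    have h10 : (m : ℕ) ≤ 2 := (Nat.pow_le_pow_iff_right (by omega)).1 hle
    have h11 : (m : ℕ) ≠ 1 := by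
      intro h
      rw [h, pow_one] at hne
      exact hne rfl
    have h12 := m.pos
    rw [show (m : ℕ) = 2 by omega]

/-- the fields of `6.A₇`, unitary case -/
theorem a7_su {q : ℕ} (hF : Fintype.card F = q ^ 2) {p : ℕ} [hp : Fact p.Prime] [CharP F p]
    {P : Subgroup (GL (Fin 6) F)} (hC : Core P) (hcjq : Cj P q) (h : H890.A7.Facts P p) :
    q.Prime ∧ (q % 24 = 17 ∨ q % 24 = 23) := by
  have hpm : ∀ r : ℕ, r.Prime → p ≠ r → p % r ≠ 0 := by
    intro r hr hne h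
    exact hne ((Nat.prime_dvd_prime_iff_eq hr hp.out).1 (Nat.dvd_of_mod_eq_zero h)).symm
  have hfrp : ¬ Fr P p := not_fr_of_card hC p hF
  obtain ⟨h2, h3, hfr2, hfr, hcj', g, hg, hg2, hgi⟩ := h
  have hq := q_eq_of_fr hC p hF hfr2
  subst hq
  have h8 : q % 2 ≠ 0 := hpm 2 (by norm_num) h2
  have h9 : q % 3 ≠ 0 := hpm 3 (by norm_num) h3
  have h10 : q % 8 = 1 ∨ q % 8 = 7 := mod_eight_of_sqrt_two h2 hg2 (by rw [hcjq g hg, hgi])
  have h11 : ¬ (q % 24 = 1 ∨ q % 24 = 7) := fun h => hfrp (hfr h)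
  exact ⟨hp.out, by omega⟩

/-- a cube root of unity -/
theorem omega_of_a7 {p : ℕ} [hp : Fact p.Prime] [CharP F p] {P : Subgroup (GL (Fin 6) F)} (hC : Core P)
    (e : Soc P ≃* alternatingGroup (Fin 7)) (hsd : ¬ SD P) : ∃ w : F, w ^ 3 = 1 ∧ w ≠ 1 := by
  obtain ⟨c, h1, h2, -⟩ := H890.A7.hz_of p hC e hsd
  exact ⟨c, by rw [← Units.val_pow_eq_pow_val, h2, Units.val_one], fun h => h1 (Units.ext h)⟩

/-- **The linear row.** -/
theorem row5800 {H : Subgroup (GL (Fin 6) F)} (hmax : IsMaximalIn (specialLinear (Fin 6) F) H)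
    (hS : InLinearResidualClass H)
    (hlist : ∀ (p : ℕ) (_ : Fact p.Prime) (_ : CharP F p) (P : Subgroup (GL (Fin 6) F)), Core P →
      ¬ IsLieTypeChar p (Soc P) → Out6x p P) :
    ∃ (P : Subgroup (GL (Fin 6) F)) (p : ℕ), IsResidualCore H P ∧ p.Prime ∧ CharP F p ∧
    ((Nonempty (Soc P ≃* ProjectiveSpecialLinearGroup (Fin 2) (ZMod 11)) ∧ Fintype.card F = p ∧ p ≠ 3 ∧
        (p % 11 = 1 ∨ p % 11 = 3 ∨ p % 11 = 4 ∨ p % 11 = 5 ∨ p % 11 = 9)) ∨
     (Nonempty (Soc P ≃* alternatingGroup (Fin 7)) ∧ ((Fintype.card F = p ∧ (p % 24 = 1 ∨ p % 24 = 7)) ∨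
        (Fintype.card F = p ^ 2 ∧ (p % 24 = 5 ∨ p % 24 = 11 ∨ p % 24 = 13 ∨ p % 24 = 19)))) ∨
     (IsL34 (Soc P) ∧ Fintype.card F = p ∧ (p % 24 = 1 ∨ p % 24 = 19)) ∨
     (Cfsg.Spor.IsoM12 (Soc P) ∧ Fintype.card F = 3) ∨
     (IsU43 (Soc P) ∧ Fintype.card F = p ∧ (p % 12 = 1 ∨ p % 12 = 7)) ∨
     (Nonempty (Soc P ≃* Matrix.ProjectiveSpecialLinearGroup (Fin 3) F) ∧ Odd (Fintype.card F))) := by
  obtain ⟨P, hP, hC, hsd, hcj⟩ := linear_core hS
  obtain ⟨p, hp, hFp⟩ := exists_char' F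
  have hpf := Fact.mk hp
  have hcj' := hcj p hpf hFp
  refine ⟨P, p, hP, hp, hFp, ?_⟩
  have hout : Out6x p P := by
    by_cases hL : IsLieTypeChar p (Soc P)
    · rcases own6_sl p hC hL with ⟨k, hk⟩ | h
      · exact absurd hk (hcj' k)
      · exact Or.inr (Or.inr h)
    · exact hlist p hpf hFp P hC hL
  have hk6 : Nonempty (Soc P ≃* alternatingGroup (Fin 6)) → False := by
    rintro ⟨e⟩
    exact H830.A6.not_maximal_sl6 hmax hP e (H910.Six.sl6_a6_six hmax hP e hsd p).2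
  rcases hout with ⟨⟨e⟩⟩ | h6 | hout
  · rcases H890.A7.six_SL p hmax hP e with h | h
    · exact absurd h hsd
    · right; left
      refine ⟨⟨e⟩, a7_sl hC ?_ (omega_of_a7 (p := p) hC e hsd) h⟩
      have := hcj' 1
      rwa [pow_one] at this
  · exact (hk6 h6).elim
  refine sl6_concl hmax hP.le hC hsd hcj' hout ?_ (fun h _ => hk6 h) ?_ ?_
  · rintro - hF ⟨e⟩
    exact H830.L11.not_maximal hF hmax hP e
  · rintro ⟨e⟩ h3
    exact H890.A7.not_maximal_SL hmax hP e (neg_notMem h3) (exists_sc_three (by rw [h3]))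
  · intro h1 h2 h3 h4
    exact H913.N6.sl_kill hmax hP h1 h2 h3 h4

/-- **The unitary row.** -/
theorem row5803 {q : ℕ} (hF : Fintype.card F = q ^ 2) {H : Subgroup (GL (Fin 6) F)}
    (hmax : IsMaximalIn (GU 6 F q ⊓ specialLinear (Fin 6) F) H) (hS : InUnitaryResidualClass H)
    (hlist : ∀ (p : ℕ) (_ : Fact p.Prime) (_ : CharP F p) (P : Subgroup (GL (Fin 6) F)), Core P →
      ¬ IsLieTypeChar p (Soc P) → Out6x p P)
    (h45 : ∀ (p : ℕ) (_ : Fact p.Prime) (_ : CharP F p) (P : Subgroup (GL (Fin 6) F)), Core P →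
      ∀ (K : Type) (_ : Field K) (_ : Fintype K) (_ : CharP K p) (N q : ℕ), Fintype.card K = q ^ 2 →
      (N = 4 ∨ N = 5) → (Soc P ≃* PSU N K q) → SD P) :
    ∃ P : Subgroup (GL (Fin 6) F), IsResidualCore H P ∧
    ((Nonempty (Soc P ≃* ProjectiveSpecialLinearGroup (Fin 2) (ZMod 11)) ∧ q.Prime ∧ q ≠ 2 ∧
        (q % 11 = 2 ∨ q % 11 = 6 ∨ q % 11 = 7 ∨ q % 11 = 8 ∨ q % 11 = 10)) ∨
     (Nonempty (Soc P ≃* alternatingGroup (Fin 7)) ∧ q.Prime ∧ (q % 24 = 17 ∨ q % 24 = 23)) ∨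
     (IsL34 (Soc P) ∧ q.Prime ∧ (q % 24 = 5 ∨ q % 24 = 23)) ∨
     (Cfsg.Spor.IsoM22 (Soc P) ∧ q = 2) ∨
     (IsU43 (Soc P) ∧ (q = 2 ∨ (q.Prime ∧ (q % 12 = 5 ∨ q % 12 = 11)))) ∨
     (Nonempty (Soc P ≃* Cfsg.PSU 3 F q) ∧ Odd q)) := by
  obtain ⟨P, hP, hC, hsd⟩ := unitary_core hS
  obtain ⟨p, hp, hFp⟩ := exists_char' F
  have hpf := Fact.mk hp
  have hPU : P ≤ GU 6 F q := (hP.le.trans hmax.1.le).trans inf_le_left
  refine ⟨P, hP, ?_⟩
  have hout : Out6x p P := by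
    by_cases hL : IsLieTypeChar p (Soc P)
    · exact Or.inr (Or.inr (own6_su p hC hL hF hPU (h45 p hpf hFp P hC)))
    · exact hlist p hpf hFp P hC hL
  have hk6 : Nonempty (Soc P ≃* alternatingGroup (Fin 6)) → False := by
    rintro ⟨e⟩
    exact H830.A6.not_maximal_su6 hF hmax hP e (H910.Six.su6_a6_six hF hmax hP e hsd p).2
  rcases hout with ⟨⟨e⟩⟩ | h6 | hout
  · rcases H890.A7.six_SU hF p hmax hP e with h | h
    · exact absurd h hsd
    · right; left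
      exact ⟨⟨e⟩, a7_su hF hC (cj_of_le_GU hF hPU) h⟩
  · exact (hk6 h6).elim
  refine su6_concl hF hmax hP.le hC hsd (cj_of_le_GU hF hPU) hout ?_ (fun h _ => hk6 h) ?_ ?_
  · rintro K i1 i2 k hK ⟨e⟩
    have : CharP K p := by
      obtain ⟨r, hr, hKr⟩ := exists_char' K
      have hrf := Fact.mk hr
      obtain ⟨m, hm, hcard⟩ := FiniteField.card K r
      have hk : k ≠ 0 := by
        rintro rfl
        have := Fintype.one_lt_card (α := K)
        rw [hK] at this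
        simp at this
      have h1 : p ∣ r ^ (m : ℕ) := by
        rw [← hcard, hK, ← pow_mul]
        exact dvd_pow_self p (by omega)
      have h2 := (Nat.prime_dvd_prime_iff_eq hp hr).1 (hp.dvd_of_dvd_pow h1)
      rw [h2]
      exact hKr
    exact (H48.NatSU.psu_eq hC p hF hPU hK (by norm_num) (by norm_num) e rfl).2
  · rintro ⟨e⟩ h3
    exact H890.A7.not_maximal_SU hF hmax hP e (neg_notMem h3) (exists_sc_three (by rw [h3]))
  · intro h1 h2 h3 h4
    exact H913.N6.su_kill hF hmax hP h1 h2 h3 h4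

end Cfsg.Agent.H918.Six
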